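import Mathlib.RingTheory.AdicCompletion.RingHom
import Mathlib.RingTheory.AdicCompletion.LocalRing
import Mathlib.RingTheory.Localization.Away.Basic
import Mathlib.RingTheory.Adjoin.Basic
import Mathlib.Algebra.Regular.SMul

/-!
# p-adic dilatations of rings
-/

set_option autoImplicit false
universe u

open Ideal

namespace Groth.Agent.Dilat28

variable {A : Type u} [CommRing A] (p : A) {n : ℕ} (a : Fin n → A)

/-- The subalgebra `A[a_i/p]` of `A[1/p]`. -/
noncomputable def pre : Subalgebra A (Localization.Away p) :=
  Algebra.adjoin A (Set.range fun i =>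
    algebraMap A (Localization.Away p) (a i) * IsLocalization.Away.invSelf p)

theorem pre_regular : IsSMulRegular (pre p a) (algebraMap A (pre p a) p) := by
  intro x y h
  apply Subtype.ext
  have h' : algebraMap A (Localization.Away p) p * x.1 = algebraMap A (Localization.Away p) p * y.1 :=
    congrArg Subtype.val h
  exact (IsLocalization.Away.algebraMap_isUnit p).mul_right_injective h'

theorem pre_dvd (i : Fin n) :
    algebraMap A (pre p a) (a i) ∈ span {algebraMap A (pre p a) p} := by
  refine mem_span_singleton'.mpr ⟨⟨_, Algebra.subset_adjoin ⟨i, rfl⟩⟩, ?_⟩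
  apply Subtype.ext
  change algebraMap A (Localization.Away p) (a i) * IsLocalization.Away.invSelf p *
    algebraMap A (Localization.Away p) p = algebraMap A (Localization.Away p) (a i)
  rw [mul_assoc, mul_comm (IsLocalization.Away.invSelf p), IsLocalization.Away.mul_invSelf, mul_one]

variable {B : Type u} [CommRing B] [Algebra A B]

theorem exists_pre_hom (hB : IsSMulRegular B (algebraMap A B p))
    (hb : ∀ i, algebraMap A B (a i) ∈ span {algebraMap A B p}) :
    Nonempty (pre p a →ₐ[A] B) := by
  set q := algebraMap A B p
  have hu : IsUnit (((algebraMap B (Localization.Away q)).comp (algebraMap A B)) p) :=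
    IsLocalization.Away.algebraMap_isUnit q
  let ψ : Localization.Away p →ₐ[A] Localization.Away q :=
    { IsLocalization.Away.lift p hu with
      commutes' := fun r => by
        change IsLocalization.Away.lift p hu (algebraMap A _ r) = _
        rw [IsLocalization.Away.lift_eq, IsScalarTower.algebraMap_apply A B (Localization.Away q)]
        rfl }
  let ι := IsScalarTower.toAlgHom A B (Localization.Away q)
  have hι : Function.Injective ι := by
    refine IsLocalization.injective (Localization.Away q) (M := Submonoid.powers q) ?_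
    rintro _ ⟨m, rfl⟩
    refine mem_nonZeroDivisors_iff_right.mpr fun y hy => hB.pow m ?_
    change q ^ m • y = q ^ m • (0 : B)
    rw [smul_zero, smul_eq_mul, mul_comm, hy]
  have hle : pre p a ≤ ι.range.comap ψ := by
    refine Algebra.adjoin_le ?_
    rintro _ ⟨i, rfl⟩
    obtain ⟨b, hbi⟩ := mem_span_singleton'.mp (hb i)
    refine (Subalgebra.mem_comap _ _ _).mpr ⟨b, ?_⟩
    refine hu.mul_left_injective ?_
    change algebraMap B (Localization.Away q) b * algebraMap B (Localization.Away q) q =
      ψ (algebraMap A _ (a i) * IsLocalization.Away.invSelf p) * algebraMap B (Localization.Away q) q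
    have hψq : algebraMap B (Localization.Away q) q = ψ (algebraMap A _ p) := by
      rw [AlgHom.commutes, IsScalarTower.algebraMap_apply A B (Localization.Away q)]
    rw [hψq, ← map_mul ψ, mul_assoc, mul_comm (IsLocalization.Away.invSelf p),
      IsLocalization.Away.mul_invSelf, mul_one, ← hψq, AlgHom.commutes, ← map_mul, hbi,
      IsScalarTower.algebraMap_apply A B (Localization.Away q)]
  exact ⟨(AlgEquiv.ofInjective ι hι).symm.toAlgHom.comp
    ((ψ.comp (pre p a).val).codRestrict ι.range fun x => hle x.2)⟩

theorem pre_hom_ext (hB : IsSMulRegular B (algebraMap A B p)) (φ ψ : pre p a →ₐ[A] B) : φ = ψ := by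
  refine AlgHom.adjoin_ext fun x hx => ?_
  obtain ⟨i, rfl⟩ := hx
  have e : (algebraMap A (pre p a) p) * ⟨_, Algebra.subset_adjoin ⟨i, rfl⟩⟩ =
      algebraMap A (pre p a) (a i) := by
    apply Subtype.ext
    change algebraMap A (Localization.Away p) p *
      (algebraMap A (Localization.Away p) (a i) * IsLocalization.Away.invSelf p) =
        algebraMap A (Localization.Away p) (a i)
    rw [mul_left_comm, IsLocalization.Away.mul_invSelf, mul_one]
  have key : ∀ χ : pre p a →ₐ[A] B, algebraMap A B p * χ ⟨_, Algebra.subset_adjoin ⟨i, rfl⟩⟩ =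
      algebraMap A B (a i) := fun χ => by
    refine Eq.trans ?_ ((congrArg χ e).trans (χ.commutes _))
    refine Eq.trans ?_ (χ.map_mul' _ _).symm
    exact congrArg (· * χ ⟨_, Algebra.subset_adjoin ⟨i, rfl⟩⟩) (χ.commutes p).symm
  exact hB ((key φ).trans (key ψ).symm)

section Completion

variable {R : Type u} [CommRing R] (r : R)

theorem isSMulRegular_completion (hr : IsSMulRegular R r) :
    IsSMulRegular (AdicCompletion (span {r}) R) (algebraMap R (AdicCompletion (span {r}) R) r) := by
  refine isSMulRegular_iff_right_eq_zero_of_smul.mpr fun x hx => ?_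
  refine AdicCompletion.ext_evalₐ fun k => ?_
  rw [map_zero]
  obtain ⟨z, hz⟩ := Ideal.Quotient.mk_surjective (AdicCompletion.evalₐ (span {r}) (k + 1) x)
  have h0 : Ideal.Quotient.mk (span {r} ^ (k + 1)) (r * z) = 0 := by
    rw [map_mul, hz, ← AdicCompletion.evalₐ_of (span {r}) (k + 1) r, ← map_mul]
    rw [show AdicCompletion.of (span {r}) R r * x = 0 from hx, map_zero]
  rw [Ideal.Quotient.eq_zero_iff_mem, span_singleton_pow, mem_span_singleton'] at h0
  obtain ⟨c, hc⟩ := h0
  have hz' : z = c * r ^ k := hr (show r * z = r * (c * r ^ k) by rw [← hc]; ring)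
  have hf : AdicCompletion.evalₐ (span {r}) k x =
      Ideal.Quotient.factorPow (span {r}) k.le_succ (AdicCompletion.evalₐ (span {r}) (k + 1) x) := by
    obtain ⟨s, rfl⟩ := AdicCompletion.mk_surjective (span {r}) R x
    rw [AdicCompletion.evalₐ_mk, AdicCompletion.evalₐ_mk]
    exact (AdicCompletion.Ideal.mk_eq_mk (span {r}) k.le_succ s).symm
  rw [hf, ← hz, Ideal.Quotient.factor_mk, Ideal.Quotient.eq_zero_iff_mem, span_singleton_pow,
    mem_span_singleton']
  exact ⟨c, hz'.symm⟩

end Completion

end Groth.Agent.Dilat28
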